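import Mathlib

/-!
The configuration of the last step of the odd order theorem (Bender–Glauberman, Appendix C):
a field of order `p ^ q` realised on `P` with its norm one group realised by `U`, an element `s`
of `P` corresponding to one, and an element `y` of an abelian `p'`-group normalised by `s` such
that the conjugate of `s` by `y` normalises `U`. This file has the elementary consequences.
-/

set_option autoImplicit false

namespace Cfsg.Agent.AppendixC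

/-- The configuration. -/
structure Config (G F : Type*) [Group G] [Field F] (p q : ℕ) where
  P : Subgroup G
  U : Subgroup G
  Q : Subgroup G
  f : G → F
  ψ : G → F
  s : G
  y : G
  bij : Set.BijOn f (P : Set G) Set.univ
  add : ∀ x ∈ P, ∀ z ∈ P, f (x * z) = f x + f z
  nUP : U ≤ Subgroup.normalizer (P : Set G)
  act : ∀ u ∈ U, ψ u ≠ 0 ∧ ∀ x ∈ P, f (u * x * u⁻¹) = ψ u * f x
  map_mul : ∀ u ∈ U, ∀ v ∈ U, ψ (u * v) = ψ u * ψ v
  inj : Set.InjOn ψ (U : Set G)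
  cardU : Nat.card U * (p - 1) = p ^ q - 1
  cop : (Nat.card U).Coprime (p - 1)
  s_mem : s ∈ P
  fs : f s = 1
  Qcomm : IsMulCommutative Q
  Qcop : (Nat.card Q).Coprime p
  sQ : s ∈ Subgroup.normalizer (Q : Set G)
  y_mem : y ∈ Q
  yU : y * s * y⁻¹ ∈ Subgroup.normalizer (U : Set G)

variable {G F : Type*} [Group G] [Field F] {p q : ℕ} (C : Config G F p q)

namespace Config

lemma conjP {u x : G} (hu : u ∈ C.U) (hx : x ∈ C.P) : u * x * u⁻¹ ∈ C.P :=
  (Subgroup.mem_normalizer_iff.1 (C.nUP hu) x).1 hx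

lemma f_act {u x : G} (hu : u ∈ C.U) (hx : x ∈ C.P) : C.f (u * x * u⁻¹) = C.ψ u * C.f x :=
  (C.act u hu).2 x hx

lemma f_one : C.f 1 = 0 := by
  have := C.add 1 C.P.one_mem 1 C.P.one_mem
  rw [one_mul] at this
  linear_combination -this

lemma f_inv {x : G} (hx : x ∈ C.P) : C.f x⁻¹ = -C.f x := by
  have := C.add x hx x⁻¹ (C.P.inv_mem hx)
  rw [mul_inv_cancel, C.f_one] at this
  linear_combination -this

lemma f_pow {x : G} (hx : x ∈ C.P) (n : ℕ) : C.f (x ^ n) = n * C.f x := by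
  induction n with
  | zero => simp [C.f_one]
  | succ n ih =>
    rw [pow_succ, C.add _ (C.P.pow_mem hx n) _ hx, ih]
    push_cast
    ring

lemma f_zpow {x : G} (hx : x ∈ C.P) (n : ℤ) : C.f (x ^ n) = n * C.f x := by
  rcases Int.eq_nat_or_neg n with ⟨m, rfl | rfl⟩
  · simpa using C.f_pow hx m
  · rw [zpow_neg, zpow_natCast, C.f_inv (C.P.pow_mem hx m), C.f_pow hx m]
    push_cast
    ring

lemma f_inj {x z : G} (hx : x ∈ C.P) (hz : z ∈ C.P) (h : C.f x = C.f z) : x = z :=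
  C.bij.injOn hx hz h

lemma eq_one_of_f {x : G} (hx : x ∈ C.P) (h : C.f x = 0) : x = 1 :=
  C.f_inj hx C.P.one_mem (h.trans C.f_one.symm)

lemma P_comm {x z : G} (hx : x ∈ C.P) (hz : z ∈ C.P) : x * z = z * x :=
  C.f_inj (C.P.mul_mem hx hz) (C.P.mul_mem hz hx) (by rw [C.add _ hx _ hz, C.add _ hz _ hx, add_comm])

lemma s_zpow_mem (n : ℤ) : C.s ^ n ∈ C.P := C.P.zpow_mem C.s_mem n

lemma f_s_zpow (n : ℤ) : C.f (C.s ^ n) = n := by rw [C.f_zpow C.s_mem, C.fs, mul_one]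

lemma ψ_one : C.ψ 1 = 1 := by
  have := C.map_mul 1 C.U.one_mem 1 C.U.one_mem
  rw [one_mul] at this
  exact (mul_eq_left₀ (C.act 1 C.U.one_mem).1).1 this.symm

lemma ψ_inv {u : G} (hu : u ∈ C.U) : C.ψ u⁻¹ = (C.ψ u)⁻¹ := by
  have := C.map_mul u hu u⁻¹ (C.U.inv_mem hu)
  rw [mul_inv_cancel, C.ψ_one] at this
  exact eq_inv_of_mul_eq_one_right this.symm

lemma ψ_pow {u : G} (hu : u ∈ C.U) (n : ℕ) : C.ψ (u ^ n) = C.ψ u ^ n := by
  induction n with
  | zero => simp [C.ψ_one]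
  | succ n ih => rw [pow_succ, C.map_mul _ (C.U.pow_mem hu n) _ hu, ih, pow_succ]

lemma ψ_eq_one {u : G} (hu : u ∈ C.U) (h : C.ψ u = 1) : u = 1 :=
  C.inj hu C.U.one_mem (h.trans C.ψ_one.symm)

lemma U_comm {u v : G} (hu : u ∈ C.U) (hv : v ∈ C.U) : u * v = v * u :=
  C.inj (C.U.mul_mem hu hv) (C.U.mul_mem hv hu)
    (by rw [C.map_mul _ hu _ hv, C.map_mul _ hv _ hu, mul_comm])

lemma disjoint {x : G} (hx : x ∈ C.P) (hu : x ∈ C.U) : x = 1 := by
  refine C.ψ_eq_one hu ?_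
  have h := C.f_act hu C.s_mem
  rw [C.P_comm hx C.s_mem, mul_inv_cancel_right, C.fs, mul_one] at h
  exact h.symm

/-- `s ^ β * w * s ^ α` lies in `U` only if it is trivial in the translation coordinate. -/
lemma conj_s_mem_U {u : G} {n : ℤ} (hu : u ∈ C.U) (hn : (n : F) ≠ 0)
    (h : C.s ^ (-n) * u * C.s ^ n ∈ C.U) : u = 1 := by
  have hx : C.s ^ (-n) * (u * C.s ^ n * u⁻¹) ∈ C.P :=
    C.P.mul_mem (C.s_zpow_mem _) (C.conjP hu (C.s_zpow_mem _))
  have h1 : C.s ^ (-n) * (u * C.s ^ n * u⁻¹) = 1 := C.disjoint hx (by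
    have := C.U.mul_mem h (C.U.inv_mem hu)
    simpa [mul_assoc] using this)
  have h2 := congrArg C.f h1
  rw [C.add _ (C.s_zpow_mem _) _ (C.conjP hu (C.s_zpow_mem _)), C.f_act hu (C.s_zpow_mem _),
    C.f_s_zpow, C.f_s_zpow, C.f_one] at h2
  refine C.ψ_eq_one hu ?_
  push_cast at h2
  have : (C.ψ u - 1) * (n : F) = 0 := by linear_combination h2
  rcases mul_eq_zero.1 this with h3 | h3
  · linear_combination h3
  · exact absurd h3 hn

section Char

variable [CharP F p] [hp : Fact p.Prime]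

include hp

lemma s_zpow_congr {m n : ℤ} (h : (m : F) = n) : C.s ^ m = C.s ^ n :=
  C.f_inj (C.s_zpow_mem _) (C.s_zpow_mem _) (by rw [C.f_s_zpow, C.f_s_zpow, h])

lemma P_pow {x : G} (hx : x ∈ C.P) : x ^ p = 1 :=
  C.eq_one_of_f (C.P.pow_mem hx p) (by rw [C.f_pow hx, CharP.cast_eq_zero, zero_mul])

omit hp in
lemma cast_pow_p [Fact p.Prime] (n : ℤ) : (n : F) ^ p = n := by
  haveI : ExpChar F p := ExpChar.prime Fact.out
  rw [← frobenius_def, map_intCast]

lemma exists_inv {n : ℤ} (hn : (n : F) ≠ 0) : ∃ l : ℤ, ((n * l : ℤ) : F) = 1 := by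
  have hd : ¬ (p : ℤ) ∣ n := fun h => hn ((CharP.intCast_eq_zero_iff F p n).2 h)
  obtain ⟨a, b, hab⟩ := ((Nat.prime_iff_prime_int.1 hp.out).coprime_iff_not_dvd.2 hd)
  refine ⟨b, ?_⟩
  have := congrArg (fun z : ℤ => (z : F)) hab
  push_cast at this ⊢
  rw [CharP.cast_eq_zero, mul_zero, zero_add] at this
  linear_combination this

lemma pow_card_int {n : ℤ} (hn : (n : F) ≠ 0) : (n : F) ^ (p - 1) = 1 := by
  have h := cast_pow_p (F := F) (p := p) n
  refine mul_left_cancel₀ hn ?_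
  rw [mul_one, ← pow_succ', Nat.sub_add_cancel hp.out.one_le, h]

lemma unique {c c' : G} {m m' : ℤ} (hc : c ∈ C.U) (hc' : c' ∈ C.U) (hm : (m : F) ≠ 0)
    (hm' : (m' : F) ≠ 0) (h : C.ψ c * m = C.ψ c' * m') : c = c' ∧ (m : F) = m' := by
  have hd := C.U.mul_mem (C.U.inv_mem hc') hc
  have h1 : C.ψ (c'⁻¹ * c) = m' / m := by
    rw [C.map_mul _ (C.U.inv_mem hc') _ hc, C.ψ_inv hc', eq_div_iff hm]
    field_simp [(C.act c' hc').1]
    linear_combination h
  have h2 : C.ψ ((c'⁻¹ * c) ^ (p - 1)) = 1 := by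
    rw [C.ψ_pow hd, h1, div_pow, pow_card_int (p := p) hm, pow_card_int (p := p) hm', div_one]
  have h3 : (c'⁻¹ * c) ^ (p - 1) = 1 := C.ψ_eq_one (C.U.pow_mem hd _) h2
  have h4 : (c'⁻¹ * c) ^ Nat.card C.U = 1 := by
    have := pow_card_eq_one' (x := (⟨c'⁻¹ * c, hd⟩ : C.U))
    exact congrArg Subtype.val this
  have h5 : c'⁻¹ * c = 1 := orderOf_eq_one_iff.1 (Nat.eq_one_of_dvd_coprimes C.cop
    (orderOf_dvd_of_pow_eq_one h4) (orderOf_dvd_of_pow_eq_one h3))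
  have h6 : c = c' := (inv_mul_eq_one.1 h5).symm
  subst h6
  exact ⟨rfl, mul_left_cancel₀ (C.act c hc).1 h⟩

lemma exists_decomp [Fintype F] (hF : Fintype.card F = p ^ q) [Finite G] {z : F} (hz : z ≠ 0) :
    ∃ m : ℤ, (m : F) ≠ 0 ∧ ∃ c ∈ C.U, z = C.ψ c * m := by
  classical
  haveI := Fintype.ofFinite C.U
  let g : C.U × Fin (p - 1) → {z : F // z ≠ 0} := fun x =>
    ⟨C.ψ x.1 * ((((x.2 : ℕ) + 1 : ℕ) : ℤ) : F), mul_ne_zero (C.act _ x.1.2).1 (by
      rw [Int.cast_natCast, ne_eq, CharP.cast_eq_zero_iff F p]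
      exact fun h => absurd (Nat.le_of_dvd (Nat.succ_pos _) h) (by have := x.2.isLt; omega))⟩
  have hg : Function.Injective g := by
    intro x z h
    have h' := congrArg Subtype.val h
    have hne : ∀ k : Fin (p - 1), ((((k : ℕ) + 1 : ℕ) : ℤ) : F) ≠ 0 := fun k => by
      rw [Int.cast_natCast, ne_eq, CharP.cast_eq_zero_iff F p]
      exact fun h => absurd (Nat.le_of_dvd (Nat.succ_pos _) h) (by have := k.isLt; omega)
    obtain ⟨h1, h2⟩ := C.unique x.1.2 z.1.2 (hne _) (hne _) h'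
    refine Prod.ext (Subtype.ext h1) (Fin.ext ?_)
    rw [Int.cast_natCast, Int.cast_natCast] at h2
    have := CharP.natCast_injOn_Iio F p (Set.mem_Iio.2 (by have := x.2.isLt; omega))
      (Set.mem_Iio.2 (by have := z.2.isLt; omega)) h2
    omega
  have hcard : Fintype.card (C.U × Fin (p - 1)) = Fintype.card {z : F // z ≠ 0} := by
    rw [Fintype.card_prod, Fintype.card_fin, Fintype.card_subtype_compl, Fintype.card_subtype_eq,
      hF, ← C.cardU, Nat.card_eq_fintype_card]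
  obtain ⟨x, hx⟩ := ((Fintype.bijective_iff_injective_and_card g).2 ⟨hg, hcard⟩).2 ⟨z, hz⟩
  exact ⟨_, fun h => (g x).2 (by show C.ψ x.1 * _ = 0; rw [h, mul_zero]), x.1, x.1.2,
    (congrArg Subtype.val hx).symm⟩

/-- Rewriting `s ^ β * w * s ^ α` in terms of the translation coordinate. -/
lemma bracket_eq {w c : G} {β α m : ℤ} (hw : w ∈ C.U) (hc : c ∈ C.U)
    (h : C.ψ c * m = β + α * C.ψ w) :
    C.s ^ β * w * C.s ^ α = c * C.s ^ m * (c⁻¹ * w) := by
  have h1 : C.s ^ β * (w * C.s ^ α * w⁻¹) = c * C.s ^ m * c⁻¹ := by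
    refine C.f_inj (C.P.mul_mem (C.s_zpow_mem _) (C.conjP hw (C.s_zpow_mem _)))
      (C.conjP hc (C.s_zpow_mem _)) ?_
    rw [C.add _ (C.s_zpow_mem _) _ (C.conjP hw (C.s_zpow_mem _)), C.f_act hw (C.s_zpow_mem _),
      C.f_act hc (C.s_zpow_mem _), C.f_s_zpow, C.f_s_zpow, C.f_s_zpow, h]
    ring
  calc C.s ^ β * w * C.s ^ α = C.s ^ β * (w * C.s ^ α * w⁻¹) * w := by group
    _ = c * C.s ^ m * c⁻¹ * w := by rw [h1]
    _ = c * C.s ^ m * (c⁻¹ * w) := mul_assoc _ _ _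

/-- The translation coordinate of `s ^ β * w * s ^ α` does not vanish. -/
lemma lin_ne_zero {w : G} {β α : ℤ} (hw : w ∈ C.U) (hw1 : w ≠ 1)
    (h : (β : F) ≠ 0 ∨ (α : F) ≠ 0) : (β : F) + α * C.ψ w ≠ 0 := by
  intro h0
  by_cases hα : (α : F) = 0
  · rw [hα, zero_mul, add_zero] at h0
    exact h.elim (fun hb => hb h0) (fun ha => ha hα)
  by_cases hβ : (β : F) = 0
  · rw [hβ, zero_add] at h0
    exact (mul_ne_zero hα (C.act w hw).1) h0
  refine hw1 (C.unique hw C.U.one_mem hα (m' := -β) (by push_cast; exact neg_ne_zero.2 hβ) ?_).1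
  rw [C.ψ_one]
  push_cast
  linear_combination h0

end Char

end Config

end Cfsg.Agent.AppendixC
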