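import Cfsg.Agent.Lib.OddOrder.AppendixC.Key

/-!
The end of the argument: the relation with trivial gaps forces `m₃ = -1`, so every affine
combination `(1 - i) + i * a` has norm one, a polynomial identity of degree at most `q` with
`p - 1` solutions.
-/

set_option autoImplicit false

namespace Cfsg.Agent.AppendixC

/-- A product over a full period does not depend on the starting point. -/
lemma period_prod {A : Type*} [CommGroup A] (g : ℤ → A) {p : ℕ} (hp : ∀ n : ℤ, g (n + p) = g n)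
    (a : ℤ) : ∏ l ∈ Finset.range p, g (a + l) = ∏ l ∈ Finset.range p, g l := by
  have hstep : ∀ b : ℤ, ∏ l ∈ Finset.range p, g (b + 1 + l) = ∏ l ∈ Finset.range p, g (b + l) := by
    intro b
    have h1 := Finset.prod_range_succ' (fun l : ℕ => g (b + l)) p
    rw [Finset.prod_range_succ, hp] at h1
    simp only [Nat.cast_zero, add_zero] at h1
    rw [mul_right_cancel h1]
    refine Finset.prod_congr rfl fun l _ => ?_
    push_cast
    ring_nf
  induction a with
  | zero => simp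
  | succ n ih => exact (hstep _).trans ih
  | pred n ih =>
    rw [← ih, ← hstep]
    simp

variable {G F : Type*} [Group G] [Field F] {p q : ℕ} (C : Config G F p q)

namespace Config

variable [CharP F p] [hp : Fact p.Prime]

include hp

lemma c_period (n : ℤ) : C.c (n + p) = C.c n := by
  rw [c, c, C.s_zpow_congr (n := n) (by push_cast; rw [CharP.cast_eq_zero, add_zero]),
    C.s_zpow_congr (m := -(n + p)) (n := -n) (by push_cast; rw [CharP.cast_eq_zero]; ring)]

/-- The relation with trivial gaps has balanced exponents and becomes a shorter relation. -/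
lemma short_relation {m₁ m₂ m₃ : ℤ} (E : C.eqn m₁ m₂ m₃ 1 1 1) :
    ((m₁ + m₂ + m₃ : ℤ) : F) = 0 ∧
      C.t ^ (m₁ + m₂ + 1 - m₁) * C.s ^ (-(m₁ + m₂)) * C.t ^ (m₁ + m₂ - 1)
        = C.s ^ (m₁ + m₂ - m₁) := by
  haveI := C.Qcomm
  set k := m₁ + m₂ with hk
  unfold eqn at E
  simp only [mul_one] at E
  have hZ : C.c 0 * (C.c (-1))⁻¹ * C.c (m₁ - 1) * (C.c (m₁ - 2))⁻¹ * C.c (k - 2) * (C.c k)⁻¹
      * C.s ^ (k + m₃) = 1 := by
    refine Eq.trans ?_ E
    simp only [c, C.t_eq, hk]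
    group
  have hM : C.s ^ (k + m₃) = 1 := by
    have hQ : C.s ^ (k + m₃) ∈ C.Q := by
      rw [eq_inv_of_mul_eq_one_right hZ]
      exact C.Q.inv_mem (C.Q.mul_mem (C.Q.mul_mem (C.Q.mul_mem (C.Q.mul_mem (C.Q.mul_mem (C.c_mem _)
        (C.Q.inv_mem (C.c_mem _))) (C.c_mem _)) (C.Q.inv_mem (C.c_mem _))) (C.c_mem _))
        (C.Q.inv_mem (C.c_mem _)))
    have h4 : (C.s ^ (k + m₃)) ^ Nat.card C.Q = 1 :=
      congrArg Subtype.val (pow_card_eq_one' (x := (⟨_, hQ⟩ : C.Q)))
    exact orderOf_eq_one_iff.1 (Nat.eq_one_of_dvd_coprimes C.Qcop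
      (orderOf_dvd_of_pow_eq_one h4) (orderOf_dvd_of_pow_eq_one (C.P_pow (C.s_zpow_mem _))))
  refine ⟨by rw [← C.f_s_zpow, hM, C.f_one], ?_⟩
  rw [hM, mul_one] at hZ
  letI : CommGroup C.Q := { mul_comm := C.Qcomm.is_comm.comm }
  let γ : ℤ → C.Q := fun n => ⟨C.c n, C.c_mem n⟩
  have hγ : ∀ n, γ (n + p) = γ n := fun n => Subtype.ext (C.c_period n)
  have hR : ∀ l : ℤ, γ l * (γ (l - 1))⁻¹ * γ (l + m₁ - 1) * (γ (l + m₁ - 2))⁻¹ * γ (l + k - 2)
      * (γ (l + k))⁻¹ = 1 := by
    intro l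
    refine Subtype.ext ?_
    show C.c l * (C.c (l - 1))⁻¹ * C.c (l + m₁ - 1) * (C.c (l + m₁ - 2))⁻¹ * C.c (l + k - 2)
      * (C.c (l + k))⁻¹ = 1
    have h' := congrArg (fun g => C.s ^ l * g * C.s ^ (-l)) hZ
    refine Eq.trans ?_ (h'.trans ?_)
    · simp only [c]; group
    · group
  let z : ℤ → C.Q := fun l => γ (l + k - 2) * γ (l + k - 1) * (γ (l - 1))⁻¹ * (γ (l + m₁ - 2))⁻¹
  have hz : ∀ l, z (l + 1) = z l := by
    intro l
    simp only [z]
    rw [show l + 1 + k - 2 = l + k - 1 by ring, show l + 1 + k - 1 = l + k by ring,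
      show l + 1 - 1 = l by ring, show l + 1 + m₁ - 2 = l + m₁ - 1 by ring]
    have h1 := congrArg Additive.ofMul (hR l)
    simp only [ofMul_mul, ofMul_inv, ofMul_one] at h1
    refine Additive.ofMul.injective ?_
    simp only [ofMul_mul, ofMul_inv]
    linear_combination (norm := abel) (-1 : ℤ) • h1
  have hzc : ∀ l : ℕ, z l = z 0 := by
    intro l
    induction l with
    | zero => rfl
    | succ n ih => rw [Nat.cast_succ, hz, ih]
  have hprod : ∏ l ∈ Finset.range p, z l = 1 := by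
    simp only [z]
    rw [Finset.prod_mul_distrib, Finset.prod_mul_distrib, Finset.prod_mul_distrib,
      Finset.prod_inv_distrib, Finset.prod_inv_distrib]
    have e : ∀ a : ℤ, ∏ l ∈ Finset.range p, γ ((l : ℤ) + a) = ∏ l ∈ Finset.range p, γ l := fun a =>
      (Finset.prod_congr rfl fun l _ => by rw [add_comm]).trans (period_prod γ hγ a)
    simp only [show ∀ (l : ℕ) (a : ℤ), (l : ℤ) + k - a = l + (k - a) from fun l a => by ring,
      show ∀ (l : ℕ) (a : ℤ), (l : ℤ) + m₁ - a = l + (m₁ - a) from fun l a => by ring,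
      show ∀ (l : ℕ), (l : ℤ) - 1 = l + (-1) from fun l => by ring]
    rw [e, e, e, e]
    group
  have hz0 : z 0 = 1 := by
    rw [Finset.prod_congr rfl (fun l _ => hzc l), Finset.prod_const, Finset.card_range] at hprod
    exact orderOf_eq_one_iff.1 (Nat.eq_one_of_dvd_coprimes C.Qcop (orderOf_dvd_natCard _)
      (orderOf_dvd_of_pow_eq_one hprod))
  have hz1 : z 1 = 1 := by rw [← hz0]; exact hz 0
  have h4 : γ (k - 1) * (γ 0)⁻¹ = γ (m₁ - 1) * (γ k)⁻¹ := by
    simp only [z] at hz1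
    rw [show 1 + k - 2 = k - 1 by ring, show 1 + k - 1 = k by ring, show (1 : ℤ) - 1 = 0 by ring,
      show 1 + m₁ - 2 = m₁ - 1 by ring] at hz1
    have h1 := congrArg Additive.ofMul hz1
    simp only [ofMul_mul, ofMul_inv, ofMul_one] at h1
    refine Additive.ofMul.injective ?_
    simp only [ofMul_mul, ofMul_inv]
    linear_combination (norm := abel) h1
  have h5 : C.c (k - 1) * (C.c 0)⁻¹ = C.c (m₁ - 1) * (C.c k)⁻¹ := congrArg Subtype.val h4
  have a₁ : C.c (k - 1) * (C.c 0)⁻¹ = C.s ^ (k - 1) * C.t ^ (1 - k) := by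
    simp only [c, C.t_eq]; group
  have a₂ : C.c (m₁ - 1) * (C.c k)⁻¹ = C.s ^ (m₁ - 1) * C.t ^ (k + 1 - m₁) * C.s ^ (-k) := by
    simp only [c, C.t_eq]; group
  rw [a₁, a₂] at h5
  calc C.t ^ (k + 1 - m₁) * C.s ^ (-k) * C.t ^ (k - 1)
      = C.s ^ (1 - m₁) * (C.s ^ (m₁ - 1) * C.t ^ (k + 1 - m₁) * C.s ^ (-k)) * C.t ^ (k - 1) := by
        group
    _ = C.s ^ (k - m₁) := by rw [← h5]; group

variable [Fintype F] [Finite G]

/-- The last exponent is `-1`. -/
lemma exponent_eq (hF : Fintype.card F = p ^ q) {u : G} (hu : u ∈ C.U) (hu1 : u ≠ 1)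
    {m₁ m₂ m₃ : ℤ} (hm₃ : (m₃ : F) ≠ 0) (E : C.eqn m₁ m₂ m₃ 1 1 1) : (m₃ : F) = -1 := by
  obtain ⟨hM, h4⟩ := C.short_relation E
  set k := m₁ + m₂ with hk
  set e := k + 1 - m₁ with he
  set d := k - 1 with hd
  have hkm : (k : F) = -(m₃ : F) := by push_cast [hk] at hM ⊢; linear_combination hM
  have hk0 : (k : F) ≠ 0 := by rw [hkm]; exact neg_ne_zero.2 hm₃
  have hue : C.t ^ (-e) * u * C.t ^ e ∈ C.U := by simpa using C.conjU hu (-e)
  have hud : C.t ^ d * u⁻¹ * C.t ^ (-d) ∈ C.U := C.conjU (C.U.inv_mem hu) d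
  set A := C.t ^ (-e) * u * C.t ^ e * C.s ^ (-k) * (C.t ^ d * u⁻¹ * C.t ^ (-d)) with hA
  have hcomm := C.P_comm (C.s_zpow_mem (k - m₁)) (C.conjP hu (C.s_zpow_mem (k - m₁)))
  have hconj : u * C.s ^ (k - m₁) * u⁻¹ = C.t ^ e * A * C.t ^ d := by
    rw [← h4, hA]; group
  rw [hconj, ← h4] at hcomm
  by_cases hD : ((d + e : ℤ) : F) = 0
  · -- then `t ^ d` fixes `s ^ k`
    have ht : C.t ^ e = C.t ^ (-d) := C.t_zpow_congr (by push_cast at hD ⊢; linear_combination hD)
    by_contra hne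
    have hd0 : (d : F) ≠ 0 := by
      intro h0
      apply hne
      rw [hd] at h0
      push_cast at h0
      linear_combination -h0 + hkm
    have hmem : C.s ^ (-k) ∈ C.U := by
      refine C.mem_U_of_conj hF ⟨u, hu, hu1⟩ (n := -d) (by push_cast; exact neg_ne_zero.2 hd0)
        (C.s_mem_H _) ?_
      rw [neg_neg, ← ht, h4]
      exact C.s_mem_H _
    have := congrArg C.f (C.disjoint (C.s_zpow_mem _) hmem)
    rw [C.f_s_zpow, C.f_one] at this
    push_cast at this
    exact hk0 (neg_eq_zero.1 this)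
  · exfalso
    have hAH : A * C.s ^ k ∈ C.H :=
      C.H.mul_mem (C.H.mul_mem (C.H.mul_mem (C.U_le_H hue) (C.s_mem_H _)) (C.U_le_H hud))
        (C.s_mem_H _)
    have h5 : C.s ^ (-k) * C.t ^ (d + e) * A = A * C.t ^ (d + e) * C.s ^ (-k) := by
      have := congrArg (fun g => C.t ^ (-e) * g * C.t ^ (-d)) hcomm
      refine Eq.trans ?_ (this.trans ?_) <;> group
    have h6 : C.t ^ (d + e) * (A * C.s ^ k) * C.t ^ (-(d + e)) = C.s ^ k * A := by
      have := congrArg (fun g => C.s ^ k * g * C.s ^ k * C.t ^ (-(d + e))) h5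
      refine Eq.trans ?_ (this.trans ?_) <;> group
    have hU := C.mem_U_of_conj hF ⟨u, hu, hu1⟩ hD hAH (by
      rw [h6]
      exact C.H.mul_mem (C.s_mem_H _) (C.H.mul_mem (C.H.mul_mem (C.U_le_H hue) (C.s_mem_H _))
        (C.U_le_H hud)))
    have h7 : C.t ^ d * u⁻¹ * C.t ^ (-d) = 1 := by
      refine C.conj_s_mem_U hud hk0 ?_
      have := C.U.mul_mem (C.U.inv_mem hue) hU
      refine (Eq.subst (motive := (· ∈ C.U)) ?_ this)
      rw [hA]; group
    rw [zpow_neg, conj_eq_one_iff, inv_eq_one] at h7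
    exact hu1 h7

/-- All the affine combinations have norm one. -/
lemma affine_norm (hF : Fintype.card F = p ^ q) (h2 : (2 : F) ≠ 0) {u v : G} (hu : u ∈ C.U)
    (hv : v ∈ C.U) (h : C.ψ u + C.ψ v = 2) (hu1 : u ≠ 1) (i : ℤ) :
    ((1 - i : ℤ) + (i : F) * C.ψ (C.t ^ (-(i + 1)) * u * C.t ^ (i + 1))) ^ Nat.card C.U = 1 := by
  obtain ⟨m₁, m₂, m₃, -, -, hm₃, E, c, hc, hce⟩ := C.eqn_trivial hF h2 hu hv h hu1 i
  rw [C.exponent_eq hF hu hu1 hm₃ E] at hce
  have h' : ((1 - i : ℤ) + (i : F) * C.ψ (C.t ^ (-(i + 1)) * u * C.t ^ (i + 1))) = C.ψ c := by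
    push_cast at hce ⊢
    linear_combination hce
  rw [h', ← C.ψ_pow hc, show c ^ Nat.card C.U = 1 from
    congrArg Subtype.val (pow_card_eq_one' (x := (⟨c, hc⟩ : C.U))), C.ψ_one]

/-- Replacing `s` by a power `s ^ n` with `n` prime to `p`. -/
noncomputable def scale (n : ℤ) (hn : (n : F) ≠ 0) : Config G F p q where
  P := C.P
  U := C.U
  Q := C.Q
  f := fun x => (n : F)⁻¹ * C.f x
  ψ := C.ψ
  s := C.s ^ n
  y := C.y
  bij := ⟨fun _ _ => Set.mem_univ _, fun a ha b hb hab => C.bij.injOn ha hb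
      (mul_left_cancel₀ (inv_ne_zero hn) hab),
    fun z _ => by
      obtain ⟨x, hx, he⟩ := C.bij.surjOn (Set.mem_univ ((n : F) * z))
      exact ⟨x, hx, by show (n : F)⁻¹ * C.f x = z; rw [he, inv_mul_cancel_left₀ hn]⟩⟩
  add := fun x hx z hz => by show _ * _ = _ * _ + _ * _; rw [C.add x hx z hz, mul_add]
  nUP := C.nUP
  act := fun u hu => ⟨(C.act u hu).1, fun x hx => by
    show _ * _ = _ * (_ * _); rw [C.f_act hu hx]; ring⟩
  map_mul := C.map_mul
  inj := C.inj
  cardU := C.cardU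
  cop := C.cop
  s_mem := C.s_zpow_mem n
  fs := by show _ * _ = _; rw [C.f_s_zpow, inv_mul_cancel₀ hn]
  Qcomm := C.Qcomm
  Qcop := C.Qcop
  sQ := (Subgroup.normalizer (C.Q : Set G)).zpow_mem C.sQ n
  y_mem := C.y_mem
  yU := by rw [← C.t_eq]; exact C.t_zpow_mem n

/-- There is no nontrivial solution of `a + b = 2` in norm one elements unless `p ≤ q`. -/
theorem p_le_q (hF : Fintype.card F = p ^ q) (hp2 : p ≠ 2) (hgap : q < p → q + 2 ≤ p) {u v : G}
    (hu : u ∈ C.U) (hv : v ∈ C.U) (h : C.ψ u + C.ψ v = 2) (hu1 : u ≠ 1) : p ≤ q := by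
  classical
  by_contra hlt
  have hqp := hgap (not_le.1 hlt)
  haveI : ExpChar F p := ExpChar.prime hp.out
  have h2 : (2 : F) ≠ 0 := by
    intro e
    have e' : ((2 : ℕ) : F) = 0 := by exact_mod_cast e
    rw [CharP.cast_eq_zero_iff F p] at e'
    exact hp2 ((Nat.prime_dvd_prime_iff_eq hp.out Nat.prime_two).1 e')
  have hq : q ≠ 0 := by
    rintro rfl
    have := Fintype.one_lt_card (α := F)
    rw [hF, pow_zero] at this
    exact lt_irrefl _ this
  have hm : C.t ^ (-1 : ℤ) * u * C.t ^ (1 : ℤ) ∈ C.U := by simpa using C.conjU hu (-1)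
  set a : F := C.ψ (C.t ^ (-1 : ℤ) * u * C.t ^ (1 : ℤ)) with ha
  have ha1 : a ≠ 1 := by
    intro e
    refine hu1 ?_
    calc u = C.t ^ (1 : ℤ) * (C.t ^ (-1 : ℤ) * u * C.t ^ (1 : ℤ)) * C.t ^ (-1 : ℤ) := by group
      _ = 1 := by rw [C.ψ_eq_one hm e]; group
  -- the norm as a product of Frobenius powers
  have hN : Nat.card C.U = ∑ l ∈ Finset.range q, p ^ l := by
    rw [Nat.geomSum_eq hp.out.two_le, ← C.cardU, Nat.mul_div_cancel _ (Nat.sub_pos_of_lt hp.out.one_lt)]
  let R : Polynomial F := ∏ l ∈ Finset.range q, (Polynomial.C (a ^ p ^ l - 1) * Polynomial.X + 1)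
  have hroot : ∀ j ∈ Finset.range (p - 1), (R - 1).eval (j : F) = 0 := by
    intro j hj
    rw [Finset.mem_range] at hj
    have hj1 : ((((j : ℤ) + 1 : ℤ)) : F) ≠ 0 := by
      push_cast
      have h' : ((j + 1 : ℕ) : F) ≠ 0 := by
        rw [Ne, CharP.cast_eq_zero_iff F p]
        exact fun hd => absurd (Nat.le_of_dvd (Nat.succ_pos _) hd) (by omega)
      push_cast at h'
      exact h'
    obtain ⟨l, hl⟩ := exists_inv (F := F) (p := p) hj1
    have hl0 : (l : F) ≠ 0 := by
      intro e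
      rw [Int.cast_mul, e, mul_zero] at hl
      exact zero_ne_one hl
    have key := (C.scale l hl0).affine_norm hF h2 (u := u) (v := v) hu hv h hu1 (j : ℤ)
    have ht : ∀ n : ℤ, (C.scale l hl0).t ^ n = C.t ^ (l * n) := by
      intro n
      show (C.y * C.s ^ l * C.y⁻¹) ^ n = _
      rw [← C.t_eq, ← zpow_mul]
    rw [ht, ht] at key
    rw [C.t_zpow_congr (m := l * -((j : ℤ) + 1)) (n := -1) (by
        push_cast at hl ⊢; linear_combination -hl),
      C.t_zpow_congr (m := l * ((j : ℤ) + 1)) (n := 1) (by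
        push_cast at hl ⊢; linear_combination hl)] at key
    change _ ^ Nat.card C.U = 1 at key
    rw [hN, ← Finset.prod_pow_eq_pow_sum] at key
    simp only [Polynomial.eval_sub, Polynomial.eval_one, sub_eq_zero, R, Polynomial.eval_prod]
    refine (Finset.prod_congr rfl fun k _ => ?_).trans key
    have hfix : ∀ n : ℤ, (n : F) ^ p ^ k = n := by
      intro n
      clear * - n
      induction k with
      | zero => simp
      | succ k ih => rw [pow_succ, pow_mul, ih, cast_pow_p (p := p)]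
    rw [add_pow_char_pow, mul_pow, hfix, hfix]
    simp [ha, Config.scale]
    ring
  have hR1 : R - 1 = 0 := by
    refine Polynomial.eq_zero_of_natDegree_lt_card_of_eval_eq_zero' (R - 1)
      ((Finset.range (p - 1)).image (fun j : ℕ => (j : F))) ?_ ?_
    · intro x hx
      obtain ⟨j, hj, rfl⟩ := Finset.mem_image.1 hx
      exact hroot j hj
    · rw [Finset.card_image_of_injOn, Finset.card_range]
      · refine lt_of_le_of_lt ((Polynomial.natDegree_sub_le _ _).trans ?_)
          (show q < p - 1 by omega)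
        rw [Polynomial.natDegree_one, max_le_iff]
        refine ⟨(Polynomial.natDegree_prod_le _ _).trans ?_, Nat.zero_le q⟩
        refine (Finset.sum_le_card_nsmul _ _ 1 fun l _ => ?_).trans (by simp)
        compute_degree
      · refine Set.InjOn.mono ?_ (CharP.natCast_injOn_Iio F p)
        intro j hj
        simp only [Finset.coe_range, Set.mem_Iio] at hj ⊢
        omega
  have hdeg : R.natDegree = q := by
    have hne : ∀ l, a ^ p ^ l - 1 ≠ 0 := by
      intro l e
      refine ha1 (iterateFrobenius_inj F p l ?_)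
      rw [iterateFrobenius_def, iterateFrobenius_def, one_pow]
      exact sub_eq_zero.1 e
    rw [Polynomial.natDegree_prod _ _ (fun l _ e => by
      have := congrArg (Polynomial.coeff · 0) e
      simp at this)]
    have : ∀ l ∈ Finset.range q,
        (Polynomial.C (a ^ p ^ l - 1) * Polynomial.X + 1).natDegree = 1 := fun l _ => by
      rw [← Polynomial.C_1]
      exact Polynomial.natDegree_linear (hne l)
    rw [Finset.sum_congr rfl this]
    simp
  rw [sub_eq_zero.1 hR1, Polynomial.natDegree_one] at hdeg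
  exact hq hdeg.symm

end Config

end Cfsg.Agent.AppendixC
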