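import Cfsg.Agent.Lib.OddOrder.AppendixC.Main

/-!
From a solution of `ψ u + ψ v = 2` in `U` to the relation `t^e s^(-k) t^d = s^(k - m₁)` and to
`m₃ = -1`.
-/

set_option autoImplicit false

namespace Cfsg.Agent.AppendixC

variable {G F : Type*} [Group G] [Field F] {p q : ℕ} (C : Config G F p q)

namespace Config

section Identities

/-- The shifts `s ^ n * y * s ^ (-n)` of `y`. -/
def c (n : ℤ) : G := C.s ^ n * C.y * C.s ^ (-n)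

lemma c_mem (n : ℤ) : C.c n ∈ C.Q := by
  rw [c, zpow_neg]
  exact (Subgroup.mem_normalizer_iff.1
    ((Subgroup.normalizer (C.Q : Set G)).zpow_mem C.sQ n) C.y).1 C.y_mem

/-- The split identity: it only uses that the shifts of `y` commute. -/
lemma split_identity (i j : ℤ) :
    C.s ^ i * C.t ^ (-(i + j)) * C.s ^ j = C.t ^ (-j) * C.s ^ (i + j) * C.t ^ (-i) := by
  have h : Commute (C.c i * (C.c (-j))⁻¹) C.y := by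
    exact congrArg Subtype.val (C.Qcomm.is_comm.comm (⟨C.c i * (C.c (-j))⁻¹,
      C.Q.mul_mem (C.c_mem i) (C.Q.inv_mem (C.c_mem (-j)))⟩ : C.Q) ⟨C.y, C.y_mem⟩)
  have h' : Commute (C.c (-j))⁻¹ (C.c i) := by
    exact congrArg Subtype.val (C.Qcomm.is_comm.comm (⟨(C.c (-j))⁻¹, C.Q.inv_mem (C.c_mem (-j))⟩ : C.Q)
      ⟨C.c i, C.c_mem i⟩)
  calc C.s ^ i * C.t ^ (-(i + j)) * C.s ^ j = C.c i * (C.c (-j))⁻¹ := by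
        simp only [c, C.t_eq]; group
    _ = C.y * (C.c i * (C.c (-j))⁻¹) * C.y⁻¹ := by rw [← h.eq, mul_inv_cancel_right]
    _ = C.y * ((C.c (-j))⁻¹ * C.c i) * C.y⁻¹ := by rw [h'.eq]
    _ = C.t ^ (-j) * C.s ^ (i + j) * C.t ^ (-i) := by simp only [c, C.t_eq]; group

end Identities

variable [CharP F p] [hp : Fact p.Prime] [Fintype F] [Finite G]

include hp

lemma ψ_pow_p_add {u : G} (hu : u ∈ C.U) (β α : ℤ) {m : ℤ} {c : G} (hc : c ∈ C.U)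
    (h : C.ψ c * m = β + α * C.ψ u) :
    C.ψ (c ^ p) * m = β + α * C.ψ (u ^ p) := by
  haveI : ExpChar F p := ExpChar.prime hp.out
  have h' := congrArg (fun z : F => z ^ p) h
  simp only [add_pow_expChar, mul_pow] at h'
  rw [cast_pow_p (p := p), cast_pow_p (p := p), cast_pow_p (p := p)] at h'
  rw [C.ψ_pow hc, C.ψ_pow hu, h']

/-- The cyclic equation attached to a solution `u, v` and an index `i`, in normal form. -/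
lemma eqn_of_brackets {u v : G} (hu : u ∈ C.U) (hv : v ∈ C.U) (h : C.ψ u + C.ψ v = 2) (i : ℤ)
    {c₁ c₂ c₃ : G} (hc₁ : c₁ ∈ C.U) (hc₂ : c₂ ∈ C.U) (hc₃ : c₃ ∈ C.U) {m₁ m₂ m₃ : ℤ}
    (h₁ : C.ψ c₁ * m₁ = ((i + 1 : ℤ) : F)
      + ((1 - i : ℤ) : F) * C.ψ (C.t ^ (-i) * (u⁻¹ * v) * C.t ^ i))
    (h₂ : C.ψ c₂ * m₂ = (i : F)
      + ((-(i + 1) : ℤ) : F) * C.ψ (C.t ^ (1 - i) * v⁻¹ * C.t ^ (i - 1)))
    (h₃ : C.ψ c₃ * m₃ = ((i - 1 : ℤ) : F)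
      + ((-i : ℤ) : F) * C.ψ (C.t ^ (-(i + 1)) * u * C.t ^ (i + 1))) :
    C.eqn m₁ m₂ m₃
      (c₁⁻¹ * (C.t ^ (-i) * (u⁻¹ * v) * C.t ^ i) * (C.t ^ (-1 : ℤ) * c₂ * C.t ^ (1 : ℤ)))
      (c₂⁻¹ * (C.t ^ (1 - i) * v⁻¹ * C.t ^ (i - 1)) * (C.t ^ (2 : ℤ) * c₃ * C.t ^ (-2 : ℤ)))
      (c₃⁻¹ * (C.t ^ (-(i + 1)) * u * C.t ^ (i + 1)) * (C.t ^ (-1 : ℤ) * c₁ * C.t ^ (1 : ℤ))) := by
  have hw : u⁻¹ * v ∈ C.U := C.U.mul_mem (C.U.inv_mem hu) hv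
  have hw' : C.t ^ (-i) * (u⁻¹ * v) * C.t ^ i ∈ C.U := by simpa using C.conjU hw (-i)
  have hv' : C.t ^ (1 - i) * v⁻¹ * C.t ^ (i - 1) ∈ C.U := by
    simpa using C.conjU (C.U.inv_mem hv) (1 - i)
  have hu' : C.t ^ (-(i + 1)) * u * C.t ^ (i + 1) ∈ C.U := by
    have := C.conjU hu (-(i + 1)); rwa [neg_neg] at this
  have e₁ := C.bracket_eq hw' hc₁ h₁
  have e₂ := C.bracket_eq hv' hc₂ h₂
  have e₃ := C.bracket_eq hu' hc₃ h₃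
  -- the triangle in `PU`
  have htri : C.s ^ (1 : ℤ) * (u⁻¹ * v) * C.s ^ (1 : ℤ) = u⁻¹ * C.s ^ (2 : ℤ) * v := by
    have := C.bracket_eq (β := 1) (α := 1) (m := 2) hw (C.U.inv_mem hu) ?_
    · rw [this, inv_inv, mul_inv_cancel_left]
    · rw [C.map_mul _ (C.U.inv_mem hu) _ hv, C.ψ_inv hu]
      push_cast
      field_simp [(C.act u hu).1]
      linear_combination -h
  have i₁ : C.s ^ i * C.t ^ (-(i + 1)) * C.s ^ (1 : ℤ)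
      = C.t ^ (-1 : ℤ) * C.s ^ (i + 1) * C.t ^ (-i) := C.split_identity i 1
  have i₂ : C.t ^ (-i) * C.s ^ (1 : ℤ) * C.t ^ (i - 1)
      = C.s ^ (1 - i) * C.t ^ (-1 : ℤ) * C.s ^ i := by
    have := C.split_identity (1 - i) i
    rw [sub_add_cancel, show -(1 - i) = i - 1 by ring] at this
    exact this.symm
  have i₃ : C.t ^ (-(i + 1)) * C.s ^ (2 : ℤ) * C.t ^ (i - 1)
      = C.s ^ (1 - i) * C.t ^ (-2 : ℤ) * C.s ^ (i + 1) := by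
    have := C.split_identity (1 - i) (i + 1)
    rw [show 1 - i + (i + 1) = 2 by ring, show -(1 - i) = i - 1 by ring] at this
    exact this.symm
  -- the two ways of rewriting
  have hL : C.s ^ i * C.t ^ (-(i + 1)) * (C.s ^ (1 : ℤ) * (u⁻¹ * v) * C.s ^ (1 : ℤ))
      * C.t ^ (i - 1) = C.t ^ (-1 : ℤ) * (C.s ^ (i + 1) * (C.t ^ (-i) * (u⁻¹ * v) * C.t ^ i)
        * C.s ^ (1 - i)) * C.t ^ (-1 : ℤ) * C.s ^ i := by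
    calc _ = (C.s ^ i * C.t ^ (-(i + 1)) * C.s ^ (1 : ℤ)) * (u⁻¹ * v) * C.t ^ i
          * (C.t ^ (-i) * C.s ^ (1 : ℤ) * C.t ^ (i - 1)) := by group
      _ = (C.t ^ (-1 : ℤ) * C.s ^ (i + 1) * C.t ^ (-i)) * (u⁻¹ * v) * C.t ^ i
          * (C.s ^ (1 - i) * C.t ^ (-1 : ℤ) * C.s ^ i) := by rw [i₁, i₂]
      _ = _ := by group
  have hR : C.s ^ i * C.t ^ (-(i + 1)) * (u⁻¹ * C.s ^ (2 : ℤ) * v) * C.t ^ (i - 1)
      = C.s ^ i * (C.t ^ (-(i + 1)) * u * C.t ^ (i + 1))⁻¹ * C.s ^ (1 - i) * C.t ^ (-2 : ℤ)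
        * C.s ^ (i + 1) * (C.t ^ (1 - i) * v⁻¹ * C.t ^ (i - 1))⁻¹ := by
    calc _ = C.s ^ i * (C.t ^ (-(i + 1)) * u * C.t ^ (i + 1))⁻¹
          * (C.t ^ (-(i + 1)) * C.s ^ (2 : ℤ) * C.t ^ (i - 1))
          * (C.t ^ (1 - i) * v⁻¹ * C.t ^ (i - 1))⁻¹ := by group
      _ = _ := by rw [i₃]; group
  rw [htri, hR] at hL
  have hX : C.t ^ (-1 : ℤ) * (c₁ * C.s ^ m₁ * (c₁⁻¹ * (C.t ^ (-i) * (u⁻¹ * v) * C.t ^ i)))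
      * C.t ^ (-1 : ℤ) * (c₂ * C.s ^ m₂ * (c₂⁻¹ * (C.t ^ (1 - i) * v⁻¹ * C.t ^ (i - 1))))
      * C.t ^ (2 : ℤ) * (c₃ * C.s ^ m₃ * (c₃⁻¹ * (C.t ^ (-(i + 1)) * u * C.t ^ (i + 1)))) = 1 := by
    rw [← e₁, ← e₂, ← e₃]
    refine Eq.trans ?_ (Eq.trans (congrArg (fun g => (C.t ^ (-1 : ℤ)
      * (C.s ^ (i + 1) * (C.t ^ (-i) * (u⁻¹ * v) * C.t ^ i) * C.s ^ (1 - i)) * C.t ^ (-1 : ℤ)
      * C.s ^ i) * g⁻¹) hL) (by group))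
    group
  unfold eqn
  refine Eq.trans ?_ (Eq.trans (congrArg (fun g => (C.t ^ (-1 : ℤ) * c₁ * C.t ^ (1 : ℤ))⁻¹ * g
    * (C.t ^ (-1 : ℤ) * c₁ * C.t ^ (1 : ℤ))) hX) (by group))
  group

omit [Fintype F] in
/-- Powers of the gaps: raising the solution to the `p`-th power. -/
lemma gap_pow {c w d : G} (hc : c ∈ C.U) (hw : w ∈ C.U) (hd : d ∈ C.U) {a b : ℤ} (hab : b = -a) :
    (c ^ p)⁻¹ * w ^ p * (C.t ^ a * d ^ p * C.t ^ b) = (c⁻¹ * w * (C.t ^ a * d * C.t ^ b)) ^ p := by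
  subst hab
  have h1 : (C.t ^ a * d * C.t ^ (-a)) ^ p = C.t ^ a * d ^ p * C.t ^ (-a) := by
    rw [zpow_neg, conj_pow]
  have hc1 : Commute c⁻¹ w := C.U_comm (C.U.inv_mem hc) hw
  have hc2 : Commute (c⁻¹ * w) (C.t ^ a * d * C.t ^ (-a)) :=
    C.U_comm (C.U.mul_mem (C.U.inv_mem hc) hw) (C.conjU hd a)
  rw [hc2.mul_pow, hc1.mul_pow, inv_pow, h1]

/-- All gaps are trivial. -/
lemma eqn_trivial (hF : Fintype.card F = p ^ q) (h2 : (2 : F) ≠ 0) {u v : G} (hu : u ∈ C.U)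
    (hv : v ∈ C.U) (h : C.ψ u + C.ψ v = 2) (hu1 : u ≠ 1) (i : ℤ) :
    ∃ m₁ m₂ m₃ : ℤ, (m₁ : F) ≠ 0 ∧ (m₂ : F) ≠ 0 ∧ (m₃ : F) ≠ 0 ∧ C.eqn m₁ m₂ m₃ 1 1 1 ∧
      ∃ c₃ ∈ C.U, C.ψ c₃ * m₃ = ((i - 1 : ℤ) : F)
        + ((-i : ℤ) : F) * C.ψ (C.t ^ (-(i + 1)) * u * C.t ^ (i + 1)) := by
  haveI : ExpChar F p := ExpChar.prime hp.out
  have hne : ∀ w ∈ C.U, ∀ n : ℤ, w ≠ 1 → C.t ^ n * w * C.t ^ (-n) ≠ 1 := by
    intro w _ n hw e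
    rw [zpow_neg, conj_eq_one_iff] at e
    exact hw e
  have hψu : C.ψ u ≠ 1 := fun e => hu1 (C.ψ_eq_one hu e)
  have hv1 : v⁻¹ ≠ 1 := by
    intro e
    rw [inv_eq_one.1 e, C.ψ_one] at h
    exact hψu (by linear_combination h)
  have hw : u⁻¹ * v ∈ C.U := C.U.mul_mem (C.U.inv_mem hu) hv
  have hw1 : u⁻¹ * v ≠ 1 := by
    intro e
    rw [← inv_mul_eq_one.1 e] at h
    exact hψu (mul_left_cancel₀ h2 (by linear_combination h))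
  have hw' : C.t ^ (-i) * (u⁻¹ * v) * C.t ^ i ∈ C.U ∧
      C.t ^ (-i) * (u⁻¹ * v) * C.t ^ i ≠ 1 := by
    have h₁ := C.conjU hw (-i)
    have h₂ := hne _ hw (-i) hw1
    rw [neg_neg] at h₁ h₂
    exact ⟨h₁, h₂⟩
  have hv' : C.t ^ (1 - i) * v⁻¹ * C.t ^ (i - 1) ∈ C.U ∧
      C.t ^ (1 - i) * v⁻¹ * C.t ^ (i - 1) ≠ 1 := by
    have h₁ := C.conjU (C.U.inv_mem hv) (1 - i)
    have h₂ := hne _ (C.U.inv_mem hv) (1 - i) hv1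
    rw [neg_sub] at h₁ h₂
    exact ⟨h₁, h₂⟩
  have hu' : C.t ^ (-(i + 1)) * u * C.t ^ (i + 1) ∈ C.U ∧
      C.t ^ (-(i + 1)) * u * C.t ^ (i + 1) ≠ 1 := by
    have h₁ := C.conjU hu (-(i + 1))
    have h₂ := hne _ hu (-(i + 1)) hu1
    rw [neg_neg] at h₁ h₂
    exact ⟨h₁, h₂⟩
  -- exponents and gaps
  obtain ⟨m₁, hm₁, c₁, hc₁, h₁⟩ := C.exists_decomp hF
    (C.lin_ne_zero (β := i + 1) (α := 1 - i) hw'.1 hw'.2 (by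
      by_contra e
      push Not at e
      exact h2 (by push_cast at e; linear_combination e.1 + e.2)))
  obtain ⟨m₂, hm₂, c₂, hc₂, h₂⟩ := C.exists_decomp hF
    (C.lin_ne_zero (β := i) (α := -(i + 1)) hv'.1 hv'.2 (by
      by_contra e
      push Not at e
      exact one_ne_zero (α := F) (by push_cast at e; linear_combination -e.1 - e.2)))
  obtain ⟨m₃, hm₃, c₃, hc₃, h₃⟩ := C.exists_decomp hF
    (C.lin_ne_zero (β := i - 1) (α := -i) hu'.1 hu'.2 (by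
      by_contra e
      push Not at e
      exact one_ne_zero (α := F) (by push_cast at e; linear_combination -e.1 - e.2)))
  refine ⟨m₁, m₂, m₃, hm₁, hm₂, hm₃, ?_, c₃, hc₃, h₃.symm⟩
  have E := C.eqn_of_brackets hu hv h i hc₁ hc₂ hc₃ h₁.symm h₂.symm h₃.symm
  have hp' : C.ψ (u ^ p) + C.ψ (v ^ p) = 2 := by
    rw [C.ψ_pow hu, C.ψ_pow hv, ← add_pow_expChar, h]
    simpa using cast_pow_p (F := F) (p := p) 2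
  have k₁ : C.t ^ (-i) * ((u ^ p)⁻¹ * v ^ p) * C.t ^ i
      = (C.t ^ (-i) * (u⁻¹ * v) * C.t ^ i) ^ p := by
    rw [← inv_pow, ← (show Commute u⁻¹ v from C.U_comm (C.U.inv_mem hu) hv).mul_pow,
      zpow_neg, show C.t ^ i = (C.t ^ i)⁻¹⁻¹ from (inv_inv _).symm, inv_inv (C.t ^ i)⁻¹, conj_pow]
  have k₂ : C.t ^ (1 - i) * (v ^ p)⁻¹ * C.t ^ (i - 1)
      = (C.t ^ (1 - i) * v⁻¹ * C.t ^ (i - 1)) ^ p := by
    rw [← inv_pow, show C.t ^ (i - 1) = (C.t ^ (1 - i))⁻¹ by rw [← zpow_neg, neg_sub], conj_pow]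
  have k₃ : C.t ^ (-(i + 1)) * u ^ p * C.t ^ (i + 1)
      = (C.t ^ (-(i + 1)) * u * C.t ^ (i + 1)) ^ p := by
    rw [show C.t ^ (i + 1) = (C.t ^ (-(i + 1)))⁻¹ by rw [← zpow_neg, neg_neg], conj_pow]
  have E' := C.eqn_of_brackets (C.U.pow_mem hu p) (C.U.pow_mem hv p) hp' i (C.U.pow_mem hc₁ p)
    (C.U.pow_mem hc₂ p) (C.U.pow_mem hc₃ p)
    (by rw [k₁]; exact C.ψ_pow_p_add hw'.1 _ _ hc₁ h₁.symm)
    (by rw [k₂]; exact C.ψ_pow_p_add hv'.1 _ _ hc₂ h₂.symm)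
    (by rw [k₃]; exact C.ψ_pow_p_add hu'.1 _ _ hc₃ h₃.symm)
  rw [k₁, k₂, k₃, C.gap_pow hc₁ hw'.1 hc₂ (a := -1) (b := 1) (by norm_num),
    C.gap_pow hc₂ hv'.1 hc₃ (a := 2) (b := -2) (by norm_num),
    C.gap_pow hc₃ hu'.1 hc₁ (a := -1) (b := 1) (by norm_num)] at E'
  have g₁ : c₁⁻¹ * (C.t ^ (-i) * (u⁻¹ * v) * C.t ^ i) * (C.t ^ (-1 : ℤ) * c₂ * C.t ^ (1 : ℤ))
      ∈ C.U := C.U.mul_mem (C.U.mul_mem (C.U.inv_mem hc₁) hw'.1)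
        (by simpa using C.conjU hc₂ (-1))
  have g₂ : c₂⁻¹ * (C.t ^ (1 - i) * v⁻¹ * C.t ^ (i - 1))
      * (C.t ^ (2 : ℤ) * c₃ * C.t ^ (-2 : ℤ)) ∈ C.U :=
    C.U.mul_mem (C.U.mul_mem (C.U.inv_mem hc₂) hv'.1) (C.conjU hc₃ 2)
  have g₃ : c₃⁻¹ * (C.t ^ (-(i + 1)) * u * C.t ^ (i + 1))
      * (C.t ^ (-1 : ℤ) * c₁ * C.t ^ (1 : ℤ)) ∈ C.U :=
    C.U.mul_mem (C.U.mul_mem (C.U.inv_mem hc₃) hu'.1) (by simpa using C.conjU hc₁ (-1))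
  obtain ⟨W₁, hW₁, eW₁⟩ : ∃ W ∈ C.U, _ = W := ⟨_, g₁, rfl⟩
  obtain ⟨W₂, hW₂, eW₂⟩ : ∃ W ∈ C.U, _ = W := ⟨_, g₂, rfl⟩
  obtain ⟨W₃, hW₃, eW₃⟩ : ∃ W ∈ C.U, _ = W := ⟨_, g₃, rfl⟩
  rw [eW₁, eW₂, eW₃] at E E'
  obtain ⟨f₁, f₂, f₃⟩ := C.eqn_unique hF ⟨u, hu, hu1⟩ h2 hm₂ hm₃ hW₁ hW₂ hW₃
    (C.U.pow_mem hW₁ p) (C.U.pow_mem hW₂ p) (C.U.pow_mem hW₃ p) E E'
  have fix : ∀ W ∈ C.U, W = W ^ p → W = 1 := by
    intro W hW e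
    have h1 : W ^ (p - 1) = 1 := by
      refine mul_left_cancel (a := W) ?_
      rw [← pow_succ', Nat.sub_add_cancel hp.out.one_le, mul_one]
      exact e.symm
    have h4 : W ^ Nat.card C.U = 1 :=
      congrArg Subtype.val (pow_card_eq_one' (x := (⟨W, hW⟩ : C.U)))
    exact orderOf_eq_one_iff.1 (Nat.eq_one_of_dvd_coprimes C.cop (orderOf_dvd_of_pow_eq_one h4)
      (orderOf_dvd_of_pow_eq_one h1))
  rwa [fix _ hW₁ f₁, fix _ hW₂ f₂, fix _ hW₃ f₃] at E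

end Config

end Cfsg.Agent.AppendixC
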