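import Cfsg.Agent.Lib.OddOrder.AppendixC.Basic

/-!
The key step of Bender–Glauberman, Appendix C. Write `t = y * s * y⁻¹`. A solution of
`a + b = 2` in norm one elements yields an equation
`t⁻¹ X t⁻¹ Y t² Z = 1` with `X, Y, Z ∈ PU`. Its normal form `t⁻¹ s^m₁ W₁ t⁻¹ s^m₂ W₂ t² s^m₃ W₃ = 1`
is determined by the exponents; as the latter do not change under `a ↦ a ^ p`, all `Wᵢ` are trivial.
The resulting relation between `s` and `t` forces `m₃ = -1`.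
-/

set_option autoImplicit false

namespace Cfsg.Agent.AppendixC

variable {G F : Type*} [Group G] [Field F] {p q : ℕ} (C : Config G F p q)

namespace Config

/-- The conjugate `t = y * s * y⁻¹`. -/
def t : G := C.y * C.s * C.y⁻¹

lemma t_zpow_mem (n : ℤ) : C.t ^ n ∈ Subgroup.normalizer (C.U : Set G) :=
  (Subgroup.normalizer (C.U : Set G)).zpow_mem C.yU n

lemma conjU {u : G} (hu : u ∈ C.U) (n : ℤ) : C.t ^ n * u * C.t ^ (-n) ∈ C.U := by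
  rw [zpow_neg]
  exact (Subgroup.mem_normalizer_iff.1 (C.t_zpow_mem n) u).1 hu

/-- The group `PU`. -/
def H : Subgroup G := C.P ⊔ C.U

lemma s_mem_H (n : ℤ) : C.s ^ n ∈ C.H := Subgroup.mem_sup_left (C.s_zpow_mem n)

lemma U_le_H : C.U ≤ C.H := le_sup_right

lemma exists_mul {h : G} (hh : h ∈ C.H) : ∃ x ∈ C.P, ∃ u ∈ C.U, x * u = h := by
  have h' : h ∈ ((C.P ⊔ C.U : Subgroup G) : Set G) := hh
  rw [Subgroup.coe_mul_of_right_le_normalizer_left C.P C.U C.nUP] at h'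
  exact h'

lemma mul_pow_mem {x u : G} (hx : x ∈ C.P) (hu : u ∈ C.U) :
    ∀ n : ℕ, ∃ x' ∈ C.P, (x * u) ^ n = x' * u ^ n := by
  intro n
  induction n with
  | zero => exact ⟨1, C.P.one_mem, by simp⟩
  | succ n ih =>
    obtain ⟨x', hx', h⟩ := ih
    refine ⟨x' * (u ^ n * x * (u ^ n)⁻¹), C.P.mul_mem hx' (C.conjP (C.U.pow_mem hu n) hx), ?_⟩
    rw [pow_succ, h, pow_succ]
    group

/-- The left side of the cyclic equation in normal form. -/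
def eqn (m₁ m₂ m₃ : ℤ) (W₁ W₂ W₃ : G) : Prop :=
  C.t ^ (-1 : ℤ) * C.s ^ m₁ * W₁ * C.t ^ (-1 : ℤ) * C.s ^ m₂ * W₂ * C.t ^ (2 : ℤ) * C.s ^ m₃ * W₃
    = 1

lemma t_eq (n : ℤ) : C.t ^ n = C.y * C.s ^ n * C.y⁻¹ := conj_zpow

section Char

variable [CharP F p] [hp : Fact p.Prime]

include hp

lemma s_pow_p : C.s ^ p = 1 := C.P_pow C.s_mem

lemma t_zpow_congr {m n : ℤ} (h : (m : F) = n) : C.t ^ m = C.t ^ n := by
  rw [C.t_eq, C.t_eq, C.s_zpow_congr h]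

lemma mem_P_of_pow {h : G} (hh : h ∈ C.H) (h1 : h ^ p = 1) [Finite G] : h ∈ C.P := by
  obtain ⟨x, hx, u, hu, rfl⟩ := C.exists_mul hh
  obtain ⟨x', hx', he⟩ := C.mul_pow_mem hx hu p
  rw [he] at h1
  have hup : u ^ p = 1 := C.disjoint
    (by rw [show u ^ p = x'⁻¹ from eq_inv_of_mul_eq_one_right h1]; exact C.P.inv_mem hx')
    (C.U.pow_mem hu p)
  have h2 : u ^ Nat.card C.U = 1 := by
    exact congrArg Subtype.val (pow_card_eq_one' (x := (⟨u, hu⟩ : C.U)))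
  have h3 : (Nat.card C.U).Coprime p := by
    refine Nat.Coprime.symm ((Nat.Prime.coprime_iff_not_dvd hp.out).2 fun hd => ?_)
    have h4 : p ∣ p ^ q - 1 := C.cardU ▸ hd.trans (dvd_mul_right _ _)
    rcases Nat.eq_zero_or_pos q with hq | hq
    · have := C.cardU
      simp only [hq, pow_zero, Nat.sub_self, Nat.mul_eq_zero] at this
      have h2 := hp.out.two_le
      have h5 : 0 < Nat.card C.U := Nat.card_pos
      omega
    · have h5 : p ∣ p ^ q := dvd_pow_self p hq.ne'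
      have h6 := Nat.dvd_sub h5 h4
      rw [Nat.sub_sub_self (Nat.one_le_pow _ _ hp.out.pos)] at h6
      exact hp.out.not_dvd_one h6
  have hu1 : u = 1 := orderOf_eq_one_iff.1
    (Nat.eq_one_of_dvd_coprimes h3 (orderOf_dvd_of_pow_eq_one h2) (orderOf_dvd_of_pow_eq_one hup))
  rwa [hu1, mul_one]

variable [Fintype F] [Finite G]

/-- An element of `PU` sent into `PU` by a nontrivial power of `t` lies in `U`. -/
lemma mem_U_of_conj (hF : Fintype.card F = p ^ q) (hU : ∃ u ∈ C.U, u ≠ 1) {n : ℤ}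
    (hn : (n : F) ≠ 0) {h : G} (hh : h ∈ C.H) (hc : C.t ^ n * h * C.t ^ (-n) ∈ C.H) : h ∈ C.U := by
  let K : Subgroup G := C.H ⊓ C.H.comap (MulAut.conj (C.t ^ n)).toMonoidHom
  have hK : ∀ g, g ∈ K ↔ g ∈ C.H ∧ C.t ^ n * g * C.t ^ (-n) ∈ C.H := by
    intro g
    simp only [K, zpow_neg, Subgroup.mem_inf, Subgroup.mem_comap]
    rfl
  have hUK : C.U ≤ K := fun u hu => (hK u).2 ⟨C.U_le_H hu, C.U_le_H (C.conjU hu n)⟩
  obtain ⟨x, hx, u, hu, rfl⟩ := C.exists_mul hh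
  by_cases hx1 : x = 1
  · rwa [hx1, one_mul]
  exfalso
  have hxK : x ∈ K := by
    simpa using K.mul_mem ((hK _).2 ⟨hh, hc⟩) (K.inv_mem (hUK hu))
  have hdec : ∀ z ∈ C.P, z ≠ 1 → ∃ m : ℤ, (m : F) ≠ 0 ∧ ∃ c ∈ C.U, z = c * C.s ^ m * c⁻¹ := by
    intro z hz hz1
    obtain ⟨m, hm, c, hc', he⟩ := C.exists_decomp hF (z := C.f z) (fun h0 => hz1 (C.eq_one_of_f hz h0))
    refine ⟨m, hm, c, hc', C.f_inj hz (C.conjP hc' (C.s_zpow_mem _)) ?_⟩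
    rw [C.f_act hc' (C.s_zpow_mem _), C.f_s_zpow, he]
  obtain ⟨m, hm, c, hc', hxe⟩ := hdec x hx hx1
  have hsm : C.s ^ m ∈ K := by
    have := K.mul_mem (K.mul_mem (K.inv_mem (hUK hc')) hxK) (hUK hc')
    rwa [hxe, show c⁻¹ * (c * C.s ^ m * c⁻¹) * c = C.s ^ m by group] at this
  have hsK : C.s ∈ K := by
    obtain ⟨l, hl⟩ := exists_inv (F := F) (p := p) hm
    have := K.zpow_mem hsm l
    rwa [← zpow_mul, C.s_zpow_congr (n := 1) (by rw [hl]; simp), zpow_one] at this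
  have hPK : ∀ z ∈ C.P, C.t ^ n * z * (C.t ^ n)⁻¹ ∈ C.P := by
    intro z hz
    have hzK : z ∈ K := by
      by_cases hz1 : z = 1
      · exact hz1 ▸ K.one_mem
      obtain ⟨k, -, d, hd, rfl⟩ := hdec z hz hz1
      exact K.mul_mem (K.mul_mem (hUK hd) (K.zpow_mem hsK k)) (K.inv_mem (hUK hd))
    refine C.mem_P_of_pow (by rw [← zpow_neg]; exact ((hK z).1 hzK).2) ?_
    rw [conj_pow, C.P_pow hz, mul_one, mul_inv_cancel]
  have htn : C.t ^ n ∈ Subgroup.normalizer (C.P : Set G) := Subgroup.mem_normalizer_fintype hPK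
  have ht : C.t ∈ Subgroup.normalizer (C.P : Set G) := by
    obtain ⟨l, hl⟩ := exists_inv (F := F) (p := p) hn
    have := (Subgroup.normalizer (C.P : Set G)).zpow_mem htn l
    rwa [← zpow_mul, C.t_zpow_congr (n := 1) (by rw [hl]; simp), zpow_one] at this
  -- the element `z = t * s⁻¹` lies in `Q` and normalises `P`, so commutes with `s`
  have hz : C.t * C.s⁻¹ ∈ C.Q := by
    rw [t, mul_assoc, mul_assoc, ← mul_assoc C.s]
    exact C.Q.mul_mem C.y_mem ((Subgroup.mem_normalizer_iff.1 C.sQ _).1 (C.Q.inv_mem C.y_mem))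
  set z := C.t * C.s⁻¹ with hzdef
  have hzP : z * C.s * z⁻¹ ∈ C.P := by
    have := (Subgroup.mem_normalizer_iff.1 ht C.s).1 C.s_mem
    rwa [show z * C.s * z⁻¹ = C.t * C.s * C.t⁻¹ by rw [hzdef]; group]
  have hzc : z * C.s * z⁻¹ * C.s⁻¹ = 1 := by
    have h1 : z * C.s * z⁻¹ * C.s⁻¹ ∈ C.P := C.P.mul_mem hzP (C.P.inv_mem C.s_mem)
    have h2 : z * C.s * z⁻¹ * C.s⁻¹ ∈ C.Q := by
      rw [mul_assoc, mul_assoc, ← mul_assoc C.s]
      exact C.Q.mul_mem hz ((Subgroup.mem_normalizer_iff.1 C.sQ _).1 (C.Q.inv_mem hz))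
    have h3 : (z * C.s * z⁻¹ * C.s⁻¹) ^ p = 1 := C.P_pow h1
    have h4 : (z * C.s * z⁻¹ * C.s⁻¹) ^ Nat.card C.Q = 1 :=
      congrArg Subtype.val (pow_card_eq_one' (x := (⟨_, h2⟩ : C.Q)))
    exact orderOf_eq_one_iff.1 (Nat.eq_one_of_dvd_coprimes C.Qcop
      (orderOf_dvd_of_pow_eq_one h4) (orderOf_dvd_of_pow_eq_one h3))
  have hcomm : Commute z C.s := by
    rw [mul_inv_eq_one, mul_inv_eq_iff_eq_mul] at hzc
    exact hzc
  have hts : C.t = C.s := by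
    have h1 : (z * C.s) ^ p = 1 := by
      rw [hzdef, inv_mul_cancel_right, t, conj_pow, C.s_pow_p, mul_one, mul_inv_cancel]
    rw [hcomm.mul_pow, C.s_pow_p, mul_one] at h1
    have h4 : z ^ Nat.card C.Q = 1 :=
      congrArg Subtype.val (pow_card_eq_one' (x := (⟨_, hz⟩ : C.Q)))
    have h5 : z = 1 := orderOf_eq_one_iff.1 (Nat.eq_one_of_dvd_coprimes C.Qcop
      (orderOf_dvd_of_pow_eq_one h4) (orderOf_dvd_of_pow_eq_one h1))
    exact mul_inv_eq_one.1 h5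
  obtain ⟨w, hw, hw1⟩ := hU
  have h1 := C.conjU hw (-1)
  rw [hts, neg_neg] at h1
  refine hw1 (C.conj_s_mem_U hw (n := 1) ?_ h1)
  simp

/-- The normal form is determined by its exponents. -/
lemma eqn_unique (hF : Fintype.card F = p ^ q) (hU : ∃ u ∈ C.U, u ≠ 1) (h2 : (2 : F) ≠ 0)
    {m₁ m₂ m₃ : ℤ} (hm₂ : (m₂ : F) ≠ 0) (hm₃ : (m₃ : F) ≠ 0) {W₁ W₂ W₃ V₁ V₂ V₃ : G}
    (hW₁ : W₁ ∈ C.U) (hW₂ : W₂ ∈ C.U) (hW₃ : W₃ ∈ C.U) (hV₁ : V₁ ∈ C.U) (hV₂ : V₂ ∈ C.U)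
    (hV₃ : V₃ ∈ C.U) (hW : C.eqn m₁ m₂ m₃ W₁ W₂ W₃) (hV : C.eqn m₁ m₂ m₃ V₁ V₂ V₃) :
    W₁ = V₁ ∧ W₂ = V₂ ∧ W₃ = V₃ := by
  have h : C.t ^ (-1 : ℤ) * C.s ^ m₁ * W₁ * C.t ^ (-1 : ℤ) * C.s ^ m₂ * W₂ * C.t ^ (2 : ℤ)
      * C.s ^ m₃ * W₃ = C.t ^ (-1 : ℤ) * C.s ^ m₁ * V₁ * C.t ^ (-1 : ℤ) * C.s ^ m₂ * V₂
      * C.t ^ (2 : ℤ) * C.s ^ m₃ * V₃ := hW.trans hV.symm
  have hδ : C.t * (V₁⁻¹ * W₁) * C.t ^ (-1 : ℤ) ∈ C.U := by
    simpa using C.conjU (C.U.mul_mem (C.U.inv_mem hV₁) hW₁) 1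
  set δ := C.t * (V₁⁻¹ * W₁) * C.t ^ (-1 : ℤ) with hδdef
  set e := V₂⁻¹ * (C.s ^ (-m₂) * δ * C.s ^ m₂) * W₂ with hedef
  have he : C.t ^ (-2 : ℤ) * e * C.t ^ (2 : ℤ) = C.s ^ m₃ * (V₃ * W₃⁻¹) * C.s ^ (-m₃) := by
    have h' := congrArg (fun g => (C.t ^ (-1 : ℤ) * C.s ^ m₁ * V₁ * C.t ^ (-1 : ℤ) * C.s ^ m₂
      * V₂ * C.t ^ (2 : ℤ))⁻¹ * g * (W₃⁻¹ * C.s ^ (-m₃))) h
    refine Eq.trans ?_ (h'.trans ?_)
    · rw [hedef, hδdef]; group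
    · group
  have heH : C.t ^ (-2 : ℤ) * e * C.t ^ (-(-2 : ℤ)) ∈ C.H := by
    rw [neg_neg, he]
    exact C.H.mul_mem (C.H.mul_mem (C.s_mem_H _) (C.U_le_H (C.U.mul_mem hV₃ (C.U.inv_mem hW₃))))
      (C.s_mem_H _)
  have heU : e ∈ C.U := C.mem_U_of_conj hF hU (by push_cast; simpa using h2)
    (C.H.mul_mem (C.H.mul_mem (C.U_le_H (C.U.inv_mem hV₂))
      (C.H.mul_mem (C.H.mul_mem (C.s_mem_H _) (C.U_le_H hδ)) (C.s_mem_H _))) (C.U_le_H hW₂)) heH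
  have hδ1 : δ = 1 := by
    refine C.conj_s_mem_U hδ hm₂ ?_
    rw [show C.s ^ (-m₂) * δ * C.s ^ m₂ = V₂ * e * W₂⁻¹ by rw [hedef]; group]
    exact C.U.mul_mem (C.U.mul_mem hV₂ heU) (C.U.inv_mem hW₂)
  have h1 : W₁ = V₁ := by
    rw [hδdef, zpow_neg_one, conj_eq_one_iff, inv_mul_eq_one] at hδ1
    exact hδ1.symm
  have he' : e = V₂⁻¹ * W₂ := by rw [hedef, hδ1]; group
  have h3 : V₃ * W₃⁻¹ = 1 := by
    refine C.conj_s_mem_U (C.U.mul_mem hV₃ (C.U.inv_mem hW₃)) (n := -m₃)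
      (by push_cast; exact neg_ne_zero.2 hm₃) ?_
    rw [neg_neg, ← he]
    simpa using C.conjU heU (-2)
  have h3' : W₃ = V₃ := (mul_inv_eq_one.1 h3).symm
  rw [he', h3, mul_one, ← zpow_add, add_neg_cancel, zpow_zero] at he
  have h4 : V₂⁻¹ * W₂ = 1 := by
    have := congrArg (fun g => C.t ^ (2 : ℤ) * g * C.t ^ (-2 : ℤ)) he
    simpa [mul_assoc, zpow_neg] using this
  exact ⟨h1, (inv_mul_eq_one.1 h4).symm, h3'⟩

end Char

end Config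

end Cfsg.Agent.AppendixC
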